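import Mathlib.RingTheory.Etale.Basic
import Mathlib.RingTheory.Idempotents
import Mathlib.RingTheory.Ideal.IdempotentFG
import Mathlib.LinearAlgebra.TensorProduct.Quotient
import Mathlib.RingTheory.Flat.Basic
import Mathlib.RingTheory.Flat.Stability
import Mathlib.RingTheory.FiniteType

/-! A flat, formally unramified algebra of finite type is formally étale. -/

set_option autoImplicit false
set_option maxHeartbeats 400000
universe u

open scoped TensorProduct

namespace Groth.Agent.FormallyEtale

/-- A flat cyclic module `A / N` with `N` inside a square-zero ideal is free. -/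
theorem eq_bot_of_flat_quotient {A : Type u} [CommRing A] (N I : Ideal A) (hI : I ^ 2 = ⊥) (hN : N ≤ I)
    [Module.Flat A (A ⧸ N)] : N = ⊥ := by
  have hNI : N ≤ N * I := by
    intro x hx
    let xi : I := ⟨x, hN hx⟩
    have h1 : (1 : A ⧸ N) ⊗ₜ[A] xi = 0 := by
      refine Module.Flat.lTensor_preserves_injective_linearMap (M := A ⧸ N) I.subtype Subtype.val_injective ?_
      rw [map_zero, LinearMap.lTensor_tmul]
      apply (TensorProduct.rid A (A ⧸ N)).injective
      rw [map_zero, TensorProduct.rid_tmul]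
      exact Ideal.Quotient.eq_zero_iff_mem.mpr (by simpa using hx)
    have h2 : xi ∈ N • (⊤ : Submodule A I) := by
      have h3 := congrArg (TensorProduct.quotTensorEquivQuotSMul I N) h1
      rw [map_zero] at h3
      rw [← Submodule.Quotient.mk_eq_zero, ← h3, ← map_one (Ideal.Quotient.mk N),
        TensorProduct.quotTensorEquivQuotSMul_mk_tmul, one_smul]
    have h4 := Submodule.mem_map_of_mem (f := I.subtype) h2
    rw [Submodule.map_smul'', Submodule.map_top, Submodule.range_subtype] at h4
    exact h4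
  rw [eq_bot_iff]
  calc N ≤ N * I := hNI
    _ ≤ I * I := Ideal.mul_mono_left hN
    _ = ⊥ := by rw [← pow_two, hI]

/-- The quotient of a flat algebra by an idempotent is flat. -/
theorem flat_quotient_idempotent {A C : Type u} [CommRing A] [CommRing C] [Algebra A C] [Module.Flat A C]
    {e : C} (he : IsIdempotentElem e) : Module.Flat A (C ⧸ Ideal.span {e}) := by
  let m : C →ₗ[C] C := LinearMap.mulLeft C (1 - e)
  have hle : Ideal.span {e} ≤ LinearMap.ker m := fun x hx => by
    obtain ⟨r, rfl⟩ := Ideal.mem_span_singleton'.mp hx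
    show (1 - e) * (r * e) = 0
    rw [sub_mul, one_mul, mul_left_comm, he.eq, sub_self]
  refine Module.Flat.of_retract ((Submodule.liftQ (Ideal.span {e}) m hle).restrictScalars A)
    (Ideal.Quotient.mkₐ A (Ideal.span {e})).toLinearMap (LinearMap.ext fun d => ?_)
  obtain ⟨c, rfl⟩ := Ideal.Quotient.mk_surjective d
  show Ideal.Quotient.mk (Ideal.span {e}) ((1 - e) * c) = Ideal.Quotient.mk _ c
  rw [Ideal.Quotient.eq, sub_mul, one_mul, sub_sub_cancel_left, neg_mem_iff]
  exact Ideal.mul_mem_right _ _ (Ideal.mem_span_singleton_self e)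

/-- A section modulo a square-zero ideal of a flat, unramified, finite type algebra lifts. -/
theorem exists_section_lift {A C : Type u} [CommRing A] [CommRing C] [Algebra A C] [Module.Flat A C]
    [Algebra.FormallyUnramified A C] [Algebra.FiniteType A C] (I : Ideal A) (hI : I ^ 2 = ⊥)
    (σ : C →ₐ[A] A ⧸ I) : ∃ s : C →ₐ[A] A, ∀ c, Ideal.Quotient.mk I (s c) = σ c := by
  let IC : Ideal C := I.map (algebraMap A C)
  let K : Ideal C := RingHom.ker σ
  have hICK : IC ≤ K := Ideal.map_le_iff_le_comap.mpr fun a ha => by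
    show σ (algebraMap A C a) = 0
    rw [σ.commutes]
    exact Ideal.Quotient.eq_zero_iff_mem.mpr ha
  obtain ⟨gens, hgens⟩ := ‹Algebra.FiniteType A C›.out
  choose lift hlift using fun c : C => Ideal.Quotient.mk_surjective (σ c)
  let J : Ideal C := Ideal.span ((fun g => g - algebraMap A C (lift g)) '' (gens : Set C))
  have hJfg : J.FG := Submodule.fg_span (gens.finite_toSet.image _)
  have hJK : J ≤ K := Ideal.span_le.mpr fun _ ⟨g, _, h⟩ => by
    subst h
    show σ (g - algebraMap A C (lift g)) = 0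
    rw [map_sub, σ.commutes, sub_eq_zero]
    exact (hlift g).symm
  have hrep : ∀ c : C, ∃ a : A, c - algebraMap A C a ∈ J := by
    intro c
    have hc : c ∈ Algebra.adjoin A (gens : Set C) := hgens ▸ Algebra.mem_top
    induction hc using Algebra.adjoin_induction with
    | mem g hg => exact ⟨lift g, Ideal.subset_span ⟨g, hg, rfl⟩⟩
    | algebraMap a => exact ⟨a, by simp⟩
    | add x y _ _ hx hy =>
      obtain ⟨a, ha⟩ := hx
      obtain ⟨b, hb⟩ := hy
      exact ⟨a + b, by rw [map_add]; convert add_mem ha hb using 1; ring⟩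
    | mul x y _ _ hx hy =>
      obtain ⟨a, ha⟩ := hx
      obtain ⟨b, hb⟩ := hy
      exact ⟨a * b, by
        rw [map_mul]
        convert add_mem (Ideal.mul_mem_right y _ ha) (Ideal.mul_mem_left _ (algebraMap A C a) hb) using 1
        ring⟩
  have hK : K ≤ J ⊔ IC := by
    intro c hc
    obtain ⟨a, ha⟩ := hrep c
    have ha' : σ (c - algebraMap A C a) = 0 := hJK ha
    have hca : σ c = 0 := hc
    rw [map_sub, hca, σ.commutes, zero_sub, neg_eq_zero] at ha'
    have : c = (c - algebraMap A C a) + algebraMap A C a := by ring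
    rw [this]
    exact add_mem (Ideal.mem_sup_left ha) (Ideal.mem_sup_right (Ideal.mem_map_of_mem _
      (Ideal.Quotient.eq_zero_iff_mem.mp ha')))
  -- `J` is idempotent modulo `IC`
  have hidem : J ≤ J * J ⊔ IC := by
    let L := J * J ⊔ IC
    let toQ : A ⧸ I →ₐ[A] C ⧸ L := Ideal.Quotient.liftₐ I (Algebra.ofId A (C ⧸ L)) fun a ha =>
      Ideal.Quotient.eq_zero_iff_mem.mpr (Ideal.mem_sup_right (Ideal.mem_map_of_mem _ ha))
    have heq : Ideal.Quotient.mkₐ A L = toQ.comp σ := by
      refine Algebra.FormallyUnramified.ext (I := (J ⊔ IC).map (Ideal.Quotient.mk L)) ⟨2, ?_⟩ fun c => ?_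
      · show ((J ⊔ IC).map (Ideal.Quotient.mk L)) ^ 2 = ⊥
        rw [← Ideal.map_pow, Ideal.map_eq_bot_iff_le_ker, Ideal.mk_ker, pow_two, Ideal.sup_mul, Ideal.mul_sup]
        refine sup_le (sup_le le_sup_left ?_) ?_
        · exact (Ideal.mul_le_inf.trans inf_le_right).trans le_sup_right
        · exact (Ideal.mul_le_inf.trans inf_le_left).trans le_sup_right
      · obtain ⟨a, ha⟩ := Ideal.Quotient.mk_surjective (σ c)
        rw [Ideal.Quotient.eq]
        show Ideal.Quotient.mk L c - toQ (σ c) ∈ _
        rw [← ha]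
        show Ideal.Quotient.mk L c - Ideal.Quotient.mk L (algebraMap A C a) ∈ _
        rw [← map_sub]
        refine Ideal.mem_map_of_mem _ (hK ?_)
        show σ (c - algebraMap A C a) = 0
        rw [map_sub, σ.commutes, sub_eq_zero]
        exact ha.symm
    intro x hx
    rw [← Ideal.Quotient.eq_zero_iff_mem]
    have h := AlgHom.congr_fun heq x
    rw [Ideal.Quotient.mkₐ_eq_mk] at h
    rw [h, AlgHom.comp_apply, show σ x = 0 from hJK hx, map_zero]
  let π := Ideal.Quotient.mk IC
  have hJbar : IsIdempotentElem (J.map π) := by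
    show J.map π * J.map π = J.map π
    refine le_antisymm Ideal.mul_le_right ?_
    rw [← Ideal.map_mul]
    refine (Ideal.map_mono hidem).trans ?_
    rw [Ideal.map_sup, show IC.map π = ⊥ from Ideal.map_quotient_self IC, sup_bot_eq]
  obtain ⟨e₀, he₀, hJe⟩ := (Ideal.isIdempotentElem_iff_of_fg _ (Ideal.FG.map hJfg π)).mp hJbar
  have hnil : ∀ x ∈ RingHom.ker π, IsNilpotent x := fun x hx => ⟨2, by
    rw [Ideal.mk_ker] at hx
    have h2 : x ^ 2 ∈ IC ^ 2 := Ideal.pow_mem_pow hx 2
    rw [← Ideal.map_pow, hI, Ideal.map_bot] at h2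
    exact h2⟩
  obtain ⟨e, he, hee⟩ := exists_isIdempotentElem_eq_of_ker_isNilpotent π hnil e₀
    (RingHom.mem_range.mpr (Ideal.Quotient.mk_surjective e₀)) he₀
  have heK : σ e = 0 := by
    have h1 : π e ∈ J.map π := by rw [hee, hJe]; exact Ideal.mem_span_singleton_self e₀
    obtain ⟨j, hj, hje⟩ := (Ideal.mem_map_iff_of_surjective π Ideal.Quotient.mk_surjective).mp h1
    have h2 : e - j ∈ K := hICK (Ideal.Quotient.eq.mp hje.symm)
    have h3 := add_mem h2 (hJK hj)
    rwa [sub_add_cancel] at h3
  have hJ' : J ≤ Ideal.span {e} ⊔ IC := by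
    intro x hx
    have h1 := Ideal.mem_map_of_mem π hx
    rw [hJe, ← hee] at h1
    obtain ⟨r, hr⟩ := Ideal.mem_span_singleton'.mp h1
    obtain ⟨r, rfl⟩ := Ideal.Quotient.mk_surjective r
    rw [← map_mul] at hr
    rw [show x = r * e + (x - r * e) by ring]
    exact add_mem (Ideal.mem_sup_left (Ideal.mem_span_singleton'.mpr ⟨r, rfl⟩))
      (Ideal.mem_sup_right (Ideal.Quotient.eq.mp hr.symm))
  let D := C ⧸ Ideal.span {e}
  let u : A →ₗ[A] D := Algebra.linearMap A D
  haveI : Module.Flat A D := flat_quotient_idempotent he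
  have hsurj : Function.Surjective u := by
    have h1 : ∀ c : C, ∃ a : A, ∃ z ∈ IC, c - algebraMap A C a - z ∈ Ideal.span {e} := fun c => by
      obtain ⟨a, ha⟩ := hrep c
      obtain ⟨y, hy, z, hz, hyz⟩ := Submodule.mem_sup.mp (hJ' ha)
      exact ⟨a, z, hz, by rw [← hyz]; simpa using hy⟩
    have h2 : ∀ z ∈ IC, Ideal.Quotient.mk (Ideal.span {e}) z ∈ LinearMap.range u := by
      have h3 : ∀ (a : A), a ∈ I → ∀ r : C,
          Ideal.Quotient.mk (Ideal.span {e}) (r * algebraMap A C a) ∈ LinearMap.range u := by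
        intro a ha r
        obtain ⟨b, z, hz, hzb⟩ := h1 r
        refine ⟨b * a, ?_⟩
        show Ideal.Quotient.mk (Ideal.span {e}) (algebraMap A C (b * a)) = _
        have hza : z * algebraMap A C a = 0 := by
          have h4 : z * algebraMap A C a ∈ IC ^ 2 := by
            rw [pow_two]; exact Ideal.mul_mem_mul hz (Ideal.mem_map_of_mem _ ha)
          rw [← Ideal.map_pow, hI, Ideal.map_bot] at h4
          exact h4
        rw [eq_comm, Ideal.Quotient.eq, map_mul]
        have h5 := Ideal.mul_mem_right (algebraMap A C a) _ hzb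
        rwa [sub_mul, sub_mul, hza, sub_zero] at h5
      intro z hz
      refine Submodule.span_induction (p := fun z _ => ∀ r : C,
        Ideal.Quotient.mk (Ideal.span {e}) (r * z) ∈ LinearMap.range u) ?_ ?_ ?_ ?_ hz 1 |> fun h => by simpa using h
      · rintro _ ⟨a, ha, rfl⟩ r; exact h3 a ha r
      · intro r; rw [mul_zero, map_zero]; exact zero_mem _
      · intro x y _ _ hx hy r; rw [mul_add, map_add]; exact add_mem (hx r) (hy r)
      · intro c x _ hx r; rw [smul_eq_mul, ← mul_assoc]; exact hx _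
    intro d
    obtain ⟨c, rfl⟩ := Ideal.Quotient.mk_surjective d
    obtain ⟨a, z, hz, hzc⟩ := h1 c
    obtain ⟨b, hb⟩ := h2 z hz
    refine ⟨a + b, ?_⟩
    rw [map_add, hb]
    show Ideal.Quotient.mk _ (algebraMap A C a) + _ = _
    rw [← map_add, eq_comm, Ideal.Quotient.eq, ← sub_sub]
    exact hzc
  let σD : D →ₐ[A] A ⧸ I := Ideal.Quotient.liftₐ _ σ fun x hx => by
    obtain ⟨r, rfl⟩ := Ideal.mem_span_singleton'.mp hx
    rw [map_mul, heK, mul_zero]
  have hN : LinearMap.ker u = ⊥ := by
    haveI : Module.Flat A (A ⧸ LinearMap.ker u) :=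
      Module.Flat.of_linearEquiv (LinearMap.quotKerEquivOfSurjective u hsurj)
    refine eq_bot_of_flat_quotient _ I hI fun a ha => ?_
    have h1 : σD (u a) = 0 := by rw [show u a = 0 from ha, map_zero]
    rw [show u a = algebraMap A D a from rfl, σD.commutes] at h1
    exact Ideal.Quotient.eq_zero_iff_mem.mp h1
  let E : A ≃ₐ[A] D := AlgEquiv.ofBijective (Algebra.ofId A D) ⟨LinearMap.ker_eq_bot.mp hN, hsurj⟩
  refine ⟨E.symm.toAlgHom.comp (Ideal.Quotient.mkₐ A _), fun c => ?_⟩
  show Ideal.Quotient.mk I (E.symm (Ideal.Quotient.mk _ c)) = σ c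
  rw [show Ideal.Quotient.mk I (E.symm (Ideal.Quotient.mk (Ideal.span {e}) c)) =
    σD (algebraMap A D (E.symm (Ideal.Quotient.mk (Ideal.span {e}) c))) from (σD.commutes _).symm,
    show algebraMap A D (E.symm (Ideal.Quotient.mk (Ideal.span {e}) c)) = Ideal.Quotient.mk _ c from
      E.apply_symm_apply _]
  rfl

/-- A flat, formally unramified algebra of finite type is formally étale. -/
theorem formallyEtale_of_flat_unramified (R B : Type u) [CommRing R] [CommRing B] [Algebra R B]
    [Module.Flat R B] [Algebra.FormallyUnramified R B] [Algebra.FiniteType R B] :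
    Algebra.FormallyEtale R B := by
  have : Algebra.FormallySmooth R B := Algebra.FormallySmooth.of_comp_surjective fun A _ _ I hI φ => by
    let σ : A ⊗[R] B →ₐ[A] A ⧸ I :=
      Algebra.TensorProduct.lift (Algebra.ofId A (A ⧸ I)) φ fun _ _ => Commute.all _ _
    obtain ⟨s, hs⟩ := exists_section_lift I hI σ
    refine ⟨(s.restrictScalars R).comp Algebra.TensorProduct.includeRight, AlgHom.ext fun b => ?_⟩
    show Ideal.Quotient.mk I (s (1 ⊗ₜ b)) = φ b
    rw [hs]
    simp [σ]
  exact Algebra.FormallyEtale.of_formallyUnramified_and_formallySmooth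

end Groth.Agent.FormallyEtale
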