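import Groth.Prelude.Def_MoreMor
import Groth.Agent.S5951
import Mathlib.AlgebraicGeometry.Morphisms.FormallyUnramified
import Mathlib.RingTheory.Etale.Basic

/-! Formally étale morphisms: ring-level criterion and lifting against first order thickenings. -/

set_option autoImplicit false
set_option linter.style.haveILetI false
universe u

open CategoryTheory CategoryTheory.Limits AlgebraicGeometry Opposite TopologicalSpace

namespace Groth.Agent.FormallyEtale

variable {X S : Scheme.{u}} (f : X ⟶ S)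

/-- The ring-level condition on affine opens. -/
def IsFEAffine : Prop :=
  ∀ (U : X.Opens) (V : S.Opens) (_ : IsAffineOpen U) (_ : IsAffineOpen V) (hUV : U ≤ f ⁻¹ᵁ V),
    letI := (f.appLE V U hUV).hom.toAlgebra
    Algebra.FormallyEtale Γ(S, V) Γ(X, U)

theorem formallyUnramified_of_isFEAffine (hf : IsFEAffine f) : FormallyUnramified f :=
  ⟨fun {V} hV {U} hU e => by
    letI := (f.appLE V U e).hom.toAlgebra
    haveI := hf U V hU hV e
    exact (inferInstance : Algebra.FormallyUnramified Γ(S, V) Γ(X, U))⟩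

variable {T T' : Scheme.{u}} (t : T ⟶ T')

theorem exists_lift_affine [IsClosedImmersion t] (ht2 : t.ker * t.ker = ⊥) (hf : IsFEAffine f)
    (a : T ⟶ X) (b : T' ⟶ S) (w : t ≫ b = a ≫ f) {W : T'.Opens} (hW : IsAffineOpen W) {U : X.Opens}
    (hU : IsAffineOpen U) {V : S.Opens} (hV : IsAffineOpen V) (hUV : U ≤ f ⁻¹ᵁ V) (hWV : W ≤ b ⁻¹ᵁ V)
    (hWU : t ⁻¹ᵁ W ≤ a ⁻¹ᵁ U) :
    ∃ l : (W : Scheme.{u}) ⟶ X, (t ∣_ W) ≫ l = (t ⁻¹ᵁ W).ι ≫ a ∧ l ≫ f = W.ι ≫ b := by
  have hW' : IsAffineOpen (t ⁻¹ᵁ W) := hW.preimage t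
  letI := (f.appLE V U hUV).hom.toAlgebra
  letI := (b.appLE V W hWV).hom.toAlgebra
  letI := ((t.app W).hom.comp (b.appLE V W hWV).hom).toAlgebra
  haveI := hf U V hU hV hUV
  let π : Γ(T', W) →ₐ[Γ(S, V)] Γ(T, t ⁻¹ᵁ W) := { (t.app W).hom with commutes' := fun _ => rfl }
  let α : Γ(X, U) →ₐ[Γ(S, V)] Γ(T, t ⁻¹ᵁ W) :=
    { (a.appLE U (t ⁻¹ᵁ W) hWU).hom with
      commutes' := fun r => by
        show (f.appLE V U hUV ≫ a.appLE U (t ⁻¹ᵁ W) hWU) r = (b.appLE V W hWV ≫ t.app W) r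
        rw [Scheme.Hom.app_eq_appLE, Scheme.Hom.appLE_comp_appLE, Scheme.Hom.appLE_comp_appLE]
        simp only [w] }
  have hπ : Function.Surjective π := t.app_surjective W hW
  have hker : IsNilpotent (RingHom.ker (π : Γ(T', W) →+* Γ(T, t ⁻¹ᵁ W))) := by
    refine ⟨2, ?_⟩
    have h := congrArg (fun J : T'.IdealSheafData => J.ideal ⟨W, hW⟩) ht2
    simp only [Scheme.IdealSheafData.ideal_mul, Pi.mul_apply, Scheme.IdealSheafData.ideal_bot, Pi.bot_apply] at h
    rw [Scheme.Hom.ker_apply] at h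
    rw [pow_two]
    exact h
  let ψ := Algebra.FormallySmooth.liftOfSurjective α π hπ hker
  have hψ1 : CommRingCat.ofHom ψ.toRingHom ≫ t.app W = a.appLE U (t ⁻¹ᵁ W) hWU :=
    CommRingCat.hom_ext (RingHom.ext fun x => Algebra.FormallySmooth.liftOfSurjective_apply α π hπ hker x)
  have hψ2 : f.appLE V U hUV ≫ CommRingCat.ofHom ψ.toRingHom = b.appLE V W hWV :=
    CommRingCat.hom_ext (RingHom.ext fun x => ψ.commutes x)
  refine ⟨hW.isoSpec.hom ≫ Spec.map (CommRingCat.ofHom ψ.toRingHom) ≫ hU.fromSpec, ?_, ?_⟩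
  · have h1 : (t ∣_ W) ≫ hW.isoSpec.hom = hW'.isoSpec.hom ≫ Spec.map (t.app W) := by
      rw [← cancel_mono hW.fromSpec, Category.assoc, hW.isoSpec_hom_fromSpec, morphismRestrict_ι, Category.assoc,
        Scheme.Hom.app_eq_appLE, IsAffineOpen.SpecMap_appLE_fromSpec _ _ hW' le_rfl, ← Category.assoc,
        hW'.isoSpec_hom_fromSpec]
    rw [reassoc_of% h1, ← Spec.map_comp_assoc, hψ1, IsAffineOpen.SpecMap_appLE_fromSpec _ _ hW' hWU,
      ← Category.assoc, hW'.isoSpec_hom_fromSpec]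
  · rw [Category.assoc, Category.assoc, ← IsAffineOpen.SpecMap_appLE_fromSpec f hV hU hUV,
      ← Spec.map_comp_assoc, hψ2, IsAffineOpen.SpecMap_appLE_fromSpec _ _ hW hWV,
      ← Category.assoc, hW.isoSpec_hom_fromSpec]

/-- Unique lifting against first order thickenings. -/
theorem existsUnique_lift (ht : MoreMor.IsFirstOrderThickening t) (hf : IsFEAffine f)
    (a : T ⟶ X) (b : T' ⟶ S) (w : t ≫ b = a ≫ f) : ∃! l : T' ⟶ X, t ≫ l = a ∧ l ≫ f = b := by
  obtain ⟨⟨hci, hsurj⟩, ht2⟩ := ht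
  haveI := formallyUnramified_of_isFEAffine f hf
  have hnil : IsNilpotent t.ker := ⟨2, by rw [pow_two]; exact ht2⟩
  have hloc : ∀ y : T', ∃ (W : T'.Opens) (l : (W : Scheme.{u}) ⟶ X), y ∈ W ∧
      (t ∣_ W) ≫ l = (t ⁻¹ᵁ W).ι ≫ a ∧ l ≫ f = W.ι ≫ b := by
    intro y
    obtain ⟨z, rfl⟩ := t.surjective y
    have hbz : b (t z) = f (a z) := by rw [← Scheme.Hom.comp_apply, w, Scheme.Hom.comp_apply]
    obtain ⟨V, hV, hzV, -⟩ := exists_isAffineOpen_mem_and_subset (X := S) (x := f (a z)) (U := ⊤) trivial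
    obtain ⟨U, hU, hzU, hUV⟩ := exists_isAffineOpen_mem_and_subset (x := a z) (U := f ⁻¹ᵁ V) hzV
    obtain ⟨O, hO, hOeq⟩ := t.isEmbedding.isInducing.isOpen_iff.mp (a ⁻¹ᵁ U).2
    have hzO : t z ∈ O := show z ∈ t ⁻¹' O from hOeq ▸ hzU
    obtain ⟨W, hW, hzW, hWle⟩ := exists_isAffineOpen_mem_and_subset (x := t z)
      (U := (⟨O, hO⟩ : T'.Opens) ⊓ b ⁻¹ᵁ V) ⟨hzO, show b (t z) ∈ V from hbz ▸ hzV⟩
    have hWU : t ⁻¹ᵁ W ≤ a ⁻¹ᵁ U := fun q hq => hOeq.le (hWle hq).1
    obtain ⟨l, h1, h2⟩ := exists_lift_affine f t ht2 hf a b w hW hU hV hUV (fun q hq => (hWle hq).2) hWU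
    exact ⟨W, l, hzW, h1, h2⟩
  choose W l hyW hl1 hl2 using hloc
  let 𝒰 := T'.openCoverOfIsOpenCover W (IsOpenCover.mk (eq_top_iff.mpr fun y _ => Opens.mem_iSup.mpr ⟨y, hyW y⟩))
  have hcompat : ∀ x y, pullback.fst (𝒰.f x) (𝒰.f y) ≫ l x = pullback.snd (𝒰.f x) (𝒰.f y) ≫ l y := by
    intro x y
    let j := pullback.fst (𝒰.f x) (𝒰.f y) ≫ 𝒰.f x
    have hk : IsNilpotent (pullback.fst j t).ker := ⟨2, by
      rw [Scheme.IdealSheafData.ker_fst_of_isClosedImmersion, ← Groth.Agent.S5951.comap_pow,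
        show t.ker ^ 2 = ⊥ by rw [pow_two]; exact ht2, Scheme.IdealSheafData.comap_bot]
      rfl⟩
    have key : ∀ (z : T') (q : pullback (𝒰.f x) (𝒰.f y) ⟶ (W z : Scheme.{u})) (hq : q ≫ (W z).ι = j),
        pullback.fst j t ≫ q ≫ l z = pullback.snd j t ≫ a ∧ (q ≫ l z) ≫ f = j ≫ b := by
      intro z q hq
      refine ⟨?_, by rw [Category.assoc, hl2, ← Category.assoc, hq]⟩
      let m := (isPullback_morphismRestrict t (W z)).lift (pullback.fst j t ≫ q) (pullback.snd j t)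
        (by rw [Category.assoc, hq, pullback.condition])
      rw [← Category.assoc, ← (isPullback_morphismRestrict t (W z)).lift_fst (pullback.fst j t ≫ q)
        (pullback.snd j t) (by rw [Category.assoc, hq, pullback.condition]), Category.assoc, hl1,
        ← Category.assoc, IsPullback.lift_snd]
    obtain ⟨e1, e2⟩ := key x (pullback.fst _ _) rfl
    obtain ⟨e1', e2'⟩ := key y (pullback.snd _ _) pullback.condition.symm
    exact FormallyUnramified.hom_ext (pullback.fst j t) hk f (e1.trans e1'.symm) (e2.trans e2'.symm)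
  refine ⟨𝒰.glueMorphisms l hcompat, ⟨?_, ?_⟩, fun l' hl' => ?_⟩
  · refine Scheme.hom_ext_of_forall _ _ fun z => ⟨t ⁻¹ᵁ W (t z), hyW _, ?_⟩
    rw [← Category.assoc, ← morphismRestrict_ι, Category.assoc]
    exact (congrArg ((t ∣_ W (t z)) ≫ ·) (𝒰.ι_glueMorphisms l hcompat (t z))).trans (hl1 _)
  · refine 𝒰.hom_ext _ _ fun z => ?_
    rw [← Category.assoc, 𝒰.ι_glueMorphisms l hcompat z]
    exact hl2 z
  · refine FormallyUnramified.hom_ext t hnil f ?_ ?_
    · rw [hl'.1]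
      symm
      refine Scheme.hom_ext_of_forall _ _ fun z => ⟨t ⁻¹ᵁ W (t z), hyW _, ?_⟩
      rw [← Category.assoc, ← morphismRestrict_ι, Category.assoc]
      exact (congrArg ((t ∣_ W (t z)) ≫ ·) (𝒰.ι_glueMorphisms l hcompat (t z))).trans (hl1 _)
    · rw [hl'.2]
      symm
      refine 𝒰.hom_ext _ _ fun z => ?_
      rw [← Category.assoc, 𝒰.ι_glueMorphisms l hcompat z]
      exact hl2 z

/-- `Spec` of a square-zero quotient is a first order thickening. -/
theorem isFirstOrderThickening_specMap (A : Type u) [CommRing A] (I : Ideal A) (hI : I ^ 2 = ⊥) :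
    MoreMor.IsFirstOrderThickening (Spec.map (CommRingCat.ofHom (Ideal.Quotient.mk I))) := by
  have hci : IsClosedImmersion (Spec.map (CommRingCat.ofHom (Ideal.Quotient.mk I))) :=
    IsClosedImmersion.spec_of_surjective _ Ideal.Quotient.mk_surjective
  refine ⟨⟨hci, ⟨fun z => ?_⟩⟩, ?_⟩
  · have hle : I ≤ z.asIdeal := fun x hx => z.isPrime.mem_of_pow_mem 2 (by
      have h2 : x ^ 2 ∈ I ^ 2 := Ideal.pow_mem_pow hx 2
      rw [hI, Ideal.mem_bot] at h2
      rw [h2]; exact zero_mem _)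
    haveI := z.isPrime
    refine ⟨⟨z.asIdeal.map (Ideal.Quotient.mk I), Ideal.map_isPrime_of_surjective Ideal.Quotient.mk_surjective
      (by rw [Ideal.mk_ker]; exact hle)⟩, PrimeSpectrum.ext ?_⟩
    show Ideal.comap (Ideal.Quotient.mk I) (z.asIdeal.map (Ideal.Quotient.mk I)) = z.asIdeal
    rw [Ideal.comap_map_of_surjective _ Ideal.Quotient.mk_surjective, ← RingHom.ker_eq_comap_bot,
      Ideal.mk_ker, sup_eq_left]
    exact hle
  · refine Scheme.IdealSheafData.ext_of_isAffine ?_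
    rw [Scheme.IdealSheafData.ideal_mul, Pi.mul_apply, Scheme.IdealSheafData.ideal_bot, Pi.bot_apply,
      Scheme.Hom.ker_apply]
    have hnat : RingHom.ker (Spec.map (CommRingCat.ofHom (Ideal.Quotient.mk I))).appTop.hom ≤
        I.map (Scheme.ΓSpecIso (CommRingCat.of A)).inv.hom := by
      intro x hx
      refine (congrArg (· ∈ I.map (Scheme.ΓSpecIso (CommRingCat.of A)).inv.hom)
        (ConcreteCategory.congr_hom (Scheme.ΓSpecIso (CommRingCat.of A)).hom_inv_id x)).mp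
        (Ideal.mem_map_of_mem _ (Ideal.Quotient.eq_zero_iff_mem.mp ?_))
      have h := ConcreteCategory.congr_hom
        (Scheme.ΓSpecIso_naturality (CommRingCat.ofHom (Ideal.Quotient.mk I))) x
      rw [RingHom.mem_ker] at hx
      exact h.symm.trans ((congrArg _ hx).trans (map_zero (Scheme.ΓSpecIso (CommRingCat.of (A ⧸ I))).hom.hom))
    rw [eq_bot_iff]
    refine (Ideal.mul_mono hnat hnat).trans ?_
    rw [← Ideal.map_mul, ← pow_two, hI, Ideal.map_bot]

theorem isFormallyEtaleHom_iff : MoreMor.IsFormallyEtaleHom f ↔ IsFEAffine f := by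
  constructor
  · intro hf U V hU hV hUV
    letI := (f.appLE V U hUV).hom.toAlgebra
    refine Algebra.FormallyEtale.iff_comp_bijective.mpr fun B _ _ I hI => ?_
    let t := Spec.map (CommRingCat.ofHom (Ideal.Quotient.mk I))
    let bB : Spec (CommRingCat.of B) ⟶ S := Spec.map (CommRingCat.ofHom (algebraMap Γ(S, V) B)) ≫ hV.fromSpec
    have hb : ∀ g : Γ(X, U) →ₐ[Γ(S, V)] B,
        (Spec.map (CommRingCat.ofHom g.toRingHom) ≫ hU.fromSpec) ≫ f = bB := fun g => by
      rw [Category.assoc, ← IsAffineOpen.SpecMap_appLE_fromSpec f hV hU hUV, ← Spec.map_comp_assoc]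
      congr 2
      exact CommRingCat.hom_ext g.comp_algebraMap
    refine ⟨fun g₁ g₂ hg => ?_, fun φ => ?_⟩
    · obtain ⟨m, -, hmu⟩ := hf B I hI (t ≫ Spec.map (CommRingCat.ofHom g₁.toRingHom) ≫ hU.fromSpec) bB
        (by rw [Category.assoc, hb g₁])
      have e : t ≫ Spec.map (CommRingCat.ofHom g₂.toRingHom) ≫ hU.fromSpec =
          t ≫ Spec.map (CommRingCat.ofHom g₁.toRingHom) ≫ hU.fromSpec := by
        rw [← Category.assoc, ← Category.assoc, ← Spec.map_comp, ← Spec.map_comp]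
        congr 2
        exact CommRingCat.hom_ext (congrArg AlgHom.toRingHom hg.symm)
      have h := (hmu _ ⟨rfl, hb g₁⟩).trans (hmu _ ⟨e, hb g₂⟩).symm
      rw [cancel_mono, Spec.map_inj] at h
      exact AlgHom.ext fun x => congr($h x)
    · obtain ⟨m, ⟨hm1, hm2⟩, -⟩ := hf B I hI (Spec.map (CommRingCat.ofHom φ.toRingHom) ≫ hU.fromSpec) bB (by
        rw [Category.assoc, ← IsAffineOpen.SpecMap_appLE_fromSpec f hV hU hUV, ← Spec.map_comp_assoc,
          ← Spec.map_comp_assoc]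
        congr 2
        exact CommRingCat.hom_ext φ.comp_algebraMap.symm)
      have hsurj := (isFirstOrderThickening_specMap B I hI).1.2
      have hr : Set.range m ⊆ Set.range hU.fromSpec := by
        rintro _ ⟨z, rfl⟩
        obtain ⟨z', rfl⟩ := hsurj.surj z
        exact ⟨Spec.map (CommRingCat.ofHom φ.toRingHom) z', by
          rw [← Scheme.Hom.comp_apply, ← hm1, Scheme.Hom.comp_apply]⟩
      let q := Spec.preimage (IsOpenImmersion.lift hU.fromSpec m hr)
      have hq : Spec.map q ≫ hU.fromSpec = m := by rw [Spec.map_preimage, IsOpenImmersion.lift_fac]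
      have hq1 : f.appLE V U hUV ≫ q = CommRingCat.ofHom (algebraMap Γ(S, V) B) := by
        apply Spec.map_injective
        rw [← cancel_mono hV.fromSpec]
        show _ = bB
        rw [Spec.map_comp, Category.assoc, IsAffineOpen.SpecMap_appLE_fromSpec f hV hU hUV, ← Category.assoc,
          hq, hm2]
      refine ⟨{ q.hom with commutes' := fun r => ConcreteCategory.congr_hom hq1 r }, AlgHom.ext fun x => ?_⟩
      have hq2 : q ≫ CommRingCat.ofHom (Ideal.Quotient.mk I) = CommRingCat.ofHom φ.toRingHom := by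
        apply Spec.map_injective
        rw [← cancel_mono hU.fromSpec, Spec.map_comp, Category.assoc, hq]
        exact hm1
      exact ConcreteCategory.congr_hom hq2 x
  · intro hf A _ I hI a b hw
    exact existsUnique_lift f _ (isFirstOrderThickening_specMap A I hI) hf a b hw

end Groth.Agent.FormallyEtale
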